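import Mathlib
import Cfsg.Prelude.Def_SolvableStructure
import Cfsg.Agent.Lib.Core.Cores
import Cfsg.Agent.Lib.Core.Coprime
import Cfsg.Agent.Lib.PGroups.Basic
import Cfsg.Agent.Lib.SolvStruct.NilFactor

/-!
# Normal Sylow subgroups of minimal non-nilpotent groups

A nonabelian one is semi-extraspecial: the centre contains all commutators and `p`-th powers and
every noncentral element has all of the centre as its commutators.
-/

set_option autoImplicit false

namespace CfsgLib.Core.SchmidtLength

open Subgroup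
open scoped commutatorElement

variable {P : Type*} [Group P]

theorem comm_pow_left {a b : P} (h : ∀ y : P, ⁅a, b⁆ * y = y * ⁅a, b⁆) (n : ℕ) :
    ⁅a ^ n, b⁆ = ⁅a, b⁆ ^ n := by
  induction n with
  | zero => simp [commutatorElement_def]
  | succ n ih =>
    calc ⁅a ^ (n + 1), b⁆ = a ^ n * ⁅a, b⁆ * (b * (a ^ n)⁻¹ * b⁻¹) := by
          simp only [commutatorElement_def, pow_succ]; group
      _ = ⁅a, b⁆ * ⁅a ^ n, b⁆ := by
          rw [← h (a ^ n)]; simp only [commutatorElement_def]; group
      _ = ⁅a, b⁆ ^ (n + 1) := by rw [ih, pow_succ']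

theorem comm_mul_right_of_central {a b c : P} (h : ∀ y : P, ⁅a, c⁆ * y = y * ⁅a, c⁆) :
    ⁅a, b * c⁆ = ⁅a, b⁆ * ⁅a, c⁆ := by
  calc ⁅a, b * c⁆ = ⁅a, b⁆ * (b * ⁅a, c⁆ * b⁻¹) := by
        simp only [commutatorElement_def]; group
    _ = ⁅a, b⁆ * ⁅a, c⁆ := by rw [← h b, mul_inv_cancel_right]

/-- The facts about a nonabelian normal Sylow subgroup of a minimal non-nilpotent group. -/
structure Facts (p : ℕ) (P : Type*) [Group P] : Prop where
  comm_mem : ∀ x y : P, ⁅x, y⁆ ∈ center P
  pow_mem : ∀ x : P, x ^ p ∈ center P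
  surj : ∀ x ∉ center P, ∀ z ∈ center P, ∃ y, ⁅x, y⁆ = z
  excl : p = 2 ∨ p = 3 → ∀ V : Subgroup P, Nat.card (center P) = p → Nat.card V = p ^ 2 →
    Nat.card P = p ^ 3 → center P ≤ V → (∀ v ∈ V, v ^ p = 1) → False

section Aut

variable [Finite P] {p : ℕ} [hp : Fact p.Prime]

theorem facts_of_aut (hP : IsPGroup p P) (hna : ¬ ∀ a b : P, a * b = b * a) (α : MulAut P)
    {q : ℕ} (hq : q.Prime) (hqp : q ≠ p) (hαq : α ^ q = 1) (hα1 : α ≠ 1)
    (hfix : ∀ M : Subgroup P, (∀ m ∈ M, α m ∈ M) → M ≠ ⊤ → ∀ m ∈ M, α m = m) : Facts p P := by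
  classical
  haveI := hP.isNilpotent
  haveI : Nontrivial P := by
    by_contra h
    rw [not_nontrivial_iff_subsingleton] at h
    exact hna fun a b => Subsingleton.elim _ _
  let F : Subgroup P :=
    { carrier := {x | α x = x}
      one_mem' := map_one α
      mul_mem' := fun {a b} (ha : α a = a) (hb : α b = b) => by
        show α (a * b) = a * b
        rw [map_mul, ha, hb]
      inv_mem' := fun {a} (ha : α a = a) => by
        show α a⁻¹ = a⁻¹
        rw [map_inv, ha] }
  have hleF : ∀ M : Subgroup P, (∀ m ∈ M, α m ∈ M) → M ≠ ⊤ → M ≤ F := fun M h1 h2 m hm =>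
    hfix M h1 h2 m hm
  have hinv : ∀ M : Subgroup P, M.Characteristic → ∀ m ∈ M, α m ∈ M := by
    intro M hM m hm
    have := Subgroup.characteristic_iff_map_eq.1 hM α
    exact this ▸ mem_map_of_mem α.toMonoidHom hm
  set Φ := frattini P with hΦ
  haveI : Φ.Characteristic := by rw [hΦ]; infer_instance
  have hΦt : Φ ≠ ⊤ := CfsgLib.PGroups.frattini_ne_top
  have hΦF : Φ ≤ F := hleF Φ (hinv Φ inferInstance) hΦt
  have hcomΦ : commutator P ≤ Φ := CfsgLib.PGroups.commutator_le_frattini' hP
  -- fixed modulo `Φ` is fixed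
  have hfixmod : ∀ g : P, α g * g⁻¹ ∈ Φ → g ∈ F := by
    intro g hg
    have hMne : Φ ⊔ zpowers g ≠ ⊤ := by
      intro h
      have h2 : zpowers g = ⊤ := frattini_nongenerating (by rwa [sup_comm])
      refine hna fun a b => ?_
      obtain ⟨i, rfl⟩ := mem_zpowers_iff.1 (h2.symm ▸ mem_top a : a ∈ zpowers g)
      obtain ⟨j, rfl⟩ := mem_zpowers_iff.1 (h2.symm ▸ mem_top b : b ∈ zpowers g)
      rw [← zpow_add, ← zpow_add, add_comm]
    refine hleF _ ?_ hMne (mem_sup_right (mem_zpowers g))
    intro m hm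
    have : (Φ ⊔ zpowers g) ≤ (Φ ⊔ zpowers g).comap α.toMonoidHom := by
      refine sup_le (fun x hx => mem_sup_left (hinv Φ inferInstance x hx)) ?_
      rw [zpowers_le]
      show α g ∈ Φ ⊔ zpowers g
      rw [show α g = (α g * g⁻¹) * g by group]
      exact mul_mem (mem_sup_left hg) (mem_sup_right (mem_zpowers g))
    exact this hm
  -- the displacements generate `P`
  have hD : closure (Set.range fun x : P => x⁻¹ * α x) = ⊤ := by
    by_contra hne
    set D := closure (Set.range fun x : P => x⁻¹ * α x) with hDd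
    have hDinv : ∀ m ∈ D, α m ∈ D := by
      intro m hm
      have : D ≤ D.comap α.toMonoidHom := by
        rw [hDd, closure_le]
        rintro _ ⟨x, rfl⟩
        show α (x⁻¹ * α x) ∈ D
        rw [map_mul, map_inv]
        exact subset_closure ⟨α x, rfl⟩
      exact this hm
    have hDF := hleF D hDinv hne
    refine hα1 (MulEquiv.ext fun x => ?_)
    set f := x⁻¹ * α x with hf
    have hff : α f = f := hDF (subset_closure ⟨x, rfl⟩)
    have hit : ∀ n : ℕ, (α ^ n) x = x * f ^ n := by
      intro n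
      induction n with
      | zero => simp
      | succ n ih =>
        rw [pow_succ', MulAut.mul_apply, ih, map_mul, map_pow, hff, pow_succ', ← mul_assoc, hf,
          mul_inv_cancel_left]
    have h1 := hit q
    rw [hαq, MulAut.one_apply] at h1
    have hfq : f ^ q = 1 := left_eq_mul.1 h1
    obtain ⟨i, hi⟩ := IsPGroup.iff_orderOf.1 hP f
    have hf1 : f = 1 := orderOf_eq_one_iff.1 (Nat.eq_one_of_dvd_coprimes
      (((Nat.coprime_primes hp.out hq).2 hqp.symm).pow_left i) (hi ▸ dvd_rfl)
      (orderOf_dvd_of_pow_eq_one hfq))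
    rw [MulAut.one_apply]
    exact (inv_mul_eq_one.1 hf1).symm
  -- injectivity of `x ↦ x⁻¹ α x` on abelian quotients
  have hker : ∀ (N : Subgroup P), N.Characteristic → commutator P ≤ N → ∀ x ∈ F, x ∈ N := by
    intro N hN hcN x hx
    haveI : N.Normal := inferInstance
    have hab : ∀ a b : P ⧸ N, a * b = b * a := fun a b =>
      (Subgroup.Normal.quotient_commutative_iff_commutator_le.2 hcN).is_comm.comm a b
    letI : CommGroup (P ⧸ N) := { (inferInstance : Group (P ⧸ N)) with mul_comm := hab }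
    let ψ : P →* P ⧸ N := MonoidHom.mk' (fun x => ((x⁻¹ * α x : P) : P ⧸ N)) fun a b => by
      simp only [QuotientGroup.mk_mul, QuotientGroup.mk_inv, map_mul, mul_inv_rev]
      generalize (a : P ⧸ N)⁻¹ = u
      generalize (b : P ⧸ N)⁻¹ = w
      ac_rfl
    have hψN : N ≤ ψ.ker := fun n hn => by
      show ((n⁻¹ * α n : P) : P ⧸ N) = 1
      exact (QuotientGroup.eq_one_iff _).2 (mul_mem (inv_mem hn) (hinv N hN n hn))
    have hsurj : Function.Surjective (QuotientGroup.lift N ψ hψN) := by
      rw [← MonoidHom.range_eq_top, eq_top_iff,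
        ← MonoidHom.range_eq_top.2 (QuotientGroup.mk'_surjective N), MonoidHom.range_eq_map,
        ← hD, MonoidHom.map_closure, closure_le]
      rintro _ ⟨_, ⟨y, rfl⟩, rfl⟩
      exact ⟨(y : P ⧸ N), rfl⟩
    have hinj := (Finite.injective_iff_surjective.2 hsurj)
    refine (QuotientGroup.eq_one_iff x).1 (hinj ?_)
    rw [map_one, QuotientGroup.lift_mk]
    show ((x⁻¹ * α x : P) : P ⧸ N) = 1
    rw [show α x = x from hx, inv_mul_cancel]
    rfl
  have hFΦ : F ≤ Φ := hker Φ inferInstance hcomΦ
  -- the centre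
  have hΦZ : Φ ≤ center P := by
    intro z hz
    rw [mem_center_iff]
    intro g
    have : closure (Set.range fun x : P => x⁻¹ * α x) ≤ centralizer ({z} : Set P) := by
      rw [closure_le]
      rintro _ ⟨x, rfl⟩
      rw [SetLike.mem_coe, mem_centralizer_singleton_iff]
      have h1 : α (x * z * x⁻¹) = x * z * x⁻¹ :=
        hΦF ((inferInstance : Φ.Normal).conj_mem z hz x)
      rw [map_mul, map_mul, map_inv, show α z = z from hΦF hz] at h1
      calc x⁻¹ * α x * z = x⁻¹ * (α x * z * (α x)⁻¹) * α x := by group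
        _ = x⁻¹ * (x * z * x⁻¹) * α x := by rw [h1]
        _ = z * (x⁻¹ * α x) := by group
    exact mem_centralizer_singleton_iff.1 (this (hD ▸ mem_top g))
  have hZt : center P ≠ ⊤ := fun h => hna fun a b =>
    (mem_center_iff.1 (h.symm ▸ mem_top a) b).symm
  have hZF : center P ≤ F := hleF _ (hinv _ inferInstance) hZt
  have hZΦ : center P ≤ Φ := hZF.trans hFΦ
  have hZcom : center P ≤ commutator P := fun z hz =>
    hker (commutator P) inferInstance le_rfl z (hZF hz)
  have hcomm : ∀ x y : P, ⁅x, y⁆ ∈ center P := fun x y =>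
    hΦZ (hcomΦ (commutator_mem_commutator (mem_top x) (mem_top y)))
  have hcent : ∀ x y w : P, ⁅x, y⁆ * w = w * ⁅x, y⁆ := fun x y w =>
    (mem_center_iff.1 (hcomm x y) w).symm
  have hsemi : ∀ x ∉ center P, ∀ z ∈ center P, ∃ y, ⁅x, y⁆ = z := by
    intro x hx z hz
    let c : P →* P := MonoidHom.mk' (fun y => ⁅x, y⁆) fun a b =>
      comm_mul_right_of_central (hcent x b)
    let Zm : Subgroup P :=
      { carrier := {g | ∀ y, ⁅g, y⁆ ∈ c.range}
        one_mem' := fun y => by rw [commutatorElement_one_left]; exact one_mem _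
        mul_mem' := fun {a b} ha hb y => by
          have : ⁅a * b, y⁆ = ⁅a, y⁆ * ⁅b, y⁆ := by
            calc ⁅a * b, y⁆ = a * ⁅b, y⁆ * (y * a⁻¹ * y⁻¹) := by
                  simp only [commutatorElement_def]; group
              _ = ⁅b, y⁆ * ⁅a, y⁆ := by
                  rw [← hcent b y a]; simp only [commutatorElement_def]; group
              _ = ⁅a, y⁆ * ⁅b, y⁆ := hcent b y _
          rw [this]
          exact mul_mem (ha y) (hb y)
        inv_mem' := fun {a} ha y => by
          have : ⁅a⁻¹, y⁆ = ⁅a, y⁆⁻¹ := by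
            calc ⁅a⁻¹, y⁆ = a⁻¹ * ⁅a, y⁆⁻¹ * a := by simp only [commutatorElement_def]; group
              _ = ⁅a, y⁆⁻¹ := by
                rw [mul_assoc, inv_mul_eq_iff_eq_mul, inv_mul_eq_iff_eq_mul, ← mul_assoc, hcent a y a,
                  mul_inv_cancel_right]
          rw [this]
          exact inv_mem (ha y) }
    have hZminv : ∀ g ∈ Zm, α g ∈ Zm := by
      intro g hg y
      have h1 : ⁅α g, y⁆ = α ⁅g, α.symm y⁆ := by
        simp only [commutatorElement_def, map_mul, map_inv, MulEquiv.apply_symm_apply]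
      rw [h1, show α ⁅g, α.symm y⁆ = ⁅g, α.symm y⁆ from hZF (hcomm _ _)]
      exact hg _
    have hZmt : Zm = ⊤ := by
      by_contra hne
      exact hx (hΦZ (hFΦ (hleF Zm hZminv hne (show x ∈ Zm from fun y => ⟨y, rfl⟩))))
    have hle : commutator P ≤ c.range := by
      rw [commutator_eq_closure, closure_le]
      rintro _ ⟨a, b, rfl⟩
      exact (hZmt.symm ▸ mem_top a : a ∈ Zm) b
    obtain ⟨y, hy⟩ := hle (hZcom hz)
    exact ⟨y, hy⟩
  refine ⟨hcomm, fun x => hΦZ (CfsgLib.PGroups.pow_mem_frattini hP x), hsemi, ?_⟩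
  intro hp23 V hcZ hcV hcP hZV hexp
  set Z := center P with hZ
  have hmapZ : Z.map α.toMonoidHom = Z :=
    Subgroup.characteristic_iff_map_eq.1 inferInstance α
  let β : MulAut (P ⧸ Z) := QuotientGroup.congr Z Z α hmapZ
  have hβmk : ∀ g : P, β (g : P ⧸ Z) = ((α g : P) : P ⧸ Z) := fun g => rfl
  have hβq : β ^ q = 1 := by
    have hit : ∀ (n : ℕ) (g : P), (β ^ n) (g : P ⧸ Z) = (((α ^ n) g : P) : P ⧸ Z) := by
      intro n g
      induction n with
      | zero => rfl
      | succ n ih => rw [pow_succ', MulAut.mul_apply, ih, hβmk, pow_succ', MulAut.mul_apply]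
    ext x
    induction x using QuotientGroup.induction_on with
    | H g => rw [hit q g, hαq]; rfl
  have hnofix : ∀ x : P ⧸ Z, β x = x → x = 1 := by
    intro x
    induction x using QuotientGroup.induction_on with
    | H g =>
      intro h
      rw [hβmk, QuotientGroup.eq] at h
      have h2 : α g * g⁻¹ ∈ Z := by
        have := (inferInstance : Z.Normal).conj_mem _ (inv_mem h) g
        simpa [mul_assoc] using this
      exact (QuotientGroup.eq_one_iff g).2 (hΦZ (hFΦ (hfixmod g (hZΦ h2))))
  have hcQ : Nat.card (P ⧸ Z) = p ^ 2 := by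
    have h := Z.card_eq_card_quotient_mul_card_subgroup
    rw [hcP, hcZ, pow_succ] at h
    exact (Nat.eq_of_mul_eq_mul_right hp.out.pos h).symm
  have hqd : q ∣ p ^ 2 - 1 := by
    haveI := Fact.mk hq
    have hZp : IsPGroup q (zpowers β) := fun g => by
      obtain ⟨i, hi⟩ := mem_zpowers_iff.1 g.2
      refine ⟨1, Subtype.ext ?_⟩
      rw [pow_one, SubgroupClass.coe_pow, ← hi, ← zpow_natCast, ← zpow_mul, mul_comm, zpow_mul,
        zpow_natCast, hβq, one_zpow]
      rfl
    have hmod := hZp.card_modEq_card_fixedPoints (α := P ⧸ Z)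
    have hfx : MulAction.fixedPoints (zpowers β) (P ⧸ Z) = {1} := by
      ext x
      refine ⟨fun h => hnofix x (h ⟨β, mem_zpowers β⟩), fun h g => ?_⟩
      rw [Set.mem_singleton_iff.1 h]
      show (g : MulAut (P ⧸ Z)) 1 = 1
      exact map_one _
    rw [hcQ, hfx, Nat.card_coe_set_eq, Set.ncard_singleton] at hmod
    exact (Nat.modEq_iff_dvd' (Nat.one_le_pow _ _ hp.out.pos)).1 hmod.symm
  obtain ⟨v, hvV, hvZ⟩ : ∃ v ∈ V, v ∉ Z := by
    by_contra hne
    push Not at hne
    have := card_le_of_le (show V ≤ Z from hne)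
    rw [hcV, hcZ] at this
    nlinarith [hp.out.two_le, this]
  rcases hp23 with hp2 | hp3
  · -- `p = 2`: every element squares to one
    subst hp2
    have hq3 : q = 3 := by
      have : q ≤ 3 := Nat.le_of_dvd (by norm_num) hqd
      have := hq.two_le
      omega
    subst hq3
    refine hna fun a b => ?_
    have hsq : ∀ g : P, g ^ 2 = 1 := by
      intro g
      set x : P ⧸ Z := (v : P ⧸ Z)
      have hx1 : x ≠ 1 := fun h => hvZ ((QuotientGroup.eq_one_iff v).1 h)
      have h3 : β (β (β x)) = x := by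
        have := DFunLike.congr_fun hβq x
        rwa [pow_succ, pow_succ, pow_one, MulAut.mul_apply, MulAut.mul_apply, MulAut.one_apply] at this
      have hb : β x ≠ x := fun h => hx1 (hnofix x h)
      have hbb : β (β x) ≠ x := fun h => hb (by have := congrArg β h; rw [h3] at this; exact this.symm)
      haveI := Fintype.ofFinite (P ⧸ Z)
      have huniv : ({1, x, β x, β (β x)} : Finset (P ⧸ Z)) = Finset.univ := by
        refine Finset.eq_univ_of_card _ ?_
        rw [← Nat.card_eq_fintype_card, hcQ]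
        rw [Finset.card_insert_of_notMem, Finset.card_insert_of_notMem, Finset.card_insert_of_notMem,
          Finset.card_singleton]
        · norm_num
        · simp only [Finset.mem_singleton]
          exact fun h => hb (β.injective h.symm)
        · simp only [Finset.mem_insert, Finset.mem_singleton]
          exact not_or.2 ⟨hb.symm, hbb.symm⟩
        · simp only [Finset.mem_insert, Finset.mem_singleton]
          refine not_or.2 ⟨hx1.symm, not_or.2 ⟨fun h => hx1 (β.injective ?_),
            fun h => hx1 (β.injective (β.injective ?_))⟩⟩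
          · rw [← h, map_one]
          · rw [← h, map_one, map_one]
      have hg := Finset.mem_univ (g : P ⧸ Z)
      rw [← huniv] at hg
      simp only [Finset.mem_insert, Finset.mem_singleton] at hg
      have hcase : ∃ n : ℕ, ∃ u ∈ V, g = (α ^ n) u := by
        have hsolve : ∀ n : ℕ, ∀ u ∈ V, (g : P ⧸ Z) = (((α ^ n) u : P) : P ⧸ Z) →
            ∃ u' ∈ V, g = (α ^ n) u' := by
          intro n u hu h
          refine ⟨(α ^ n).symm g, ?_, ((α ^ n).apply_symm_apply g).symm⟩
          have h1 : ((α ^ n) u)⁻¹ * g ∈ Z := (QuotientGroup.eq).1 h.symm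
          have h2 := Subgroup.characteristic_iff_map_eq.1 (inferInstance : Z.Characteristic)
            (α ^ n).symm ▸ mem_map_of_mem ((α ^ n).symm).toMonoidHom h1
          simp only [MulEquiv.coe_toMonoidHom, map_mul, map_inv, MulEquiv.symm_apply_apply] at h2
          have h3 := mul_mem hu (hZV h2)
          rwa [mul_inv_cancel_left] at h3
        rcases hg with h | h | h | h
        · exact ⟨0, hsolve 0 1 (one_mem V) (by simpa using h)⟩
        · exact ⟨0, hsolve 0 v hvV h⟩
        · exact ⟨1, hsolve 1 v hvV (by rw [pow_one]; exact h)⟩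
        · exact ⟨2, hsolve 2 v hvV (by rw [pow_succ, pow_one, MulAut.mul_apply]; exact h)⟩
      obtain ⟨n, u, hu, rfl⟩ := hcase
      rw [← map_pow, hexp u hu, map_one]
    have hinv2 : ∀ g : P, g⁻¹ = g := fun g => inv_eq_of_mul_eq_one_right (by rw [← pow_two, hsq g])
    calc a * b = (a * b)⁻¹ := (hinv2 _).symm
      _ = b * a := by rw [mul_inv_rev, hinv2, hinv2]
  · -- `p = 3`: the automorphism inverts modulo the centre
    subst hp3
    have hq2 : q = 2 := by
      have h8 : q ∣ 2 ^ 3 := by norm_num at hqd ⊢; exact hqd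
      exact (Nat.prime_dvd_prime_iff_eq hq Nat.prime_two).1 (hq.dvd_of_dvd_pow h8)
    subst hq2
    have hVinv : ∀ m ∈ V, α m ∈ V := by
      intro m hm
      have hβ2 : β (β (m : P ⧸ Z)) = (m : P ⧸ Z) := by
        have := DFunLike.congr_fun hβq (m : P ⧸ Z)
        rwa [pow_two, MulAut.mul_apply, MulAut.one_apply] at this
      have hcc : ∀ a b : P ⧸ Z, a * b = b * a := fun a b => by
        induction a using QuotientGroup.induction_on with
        | H a =>
          induction b using QuotientGroup.induction_on with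
          | H b =>
            rw [← QuotientGroup.mk_mul, ← QuotientGroup.mk_mul, QuotientGroup.eq]
            have := hcomm b⁻¹ a⁻¹
            simpa [commutatorElement_def, mul_assoc] using this
      have h1 : (m : P ⧸ Z) * β m = 1 := hnofix _ (by rw [map_mul, hβ2, hcc])
      rw [hβmk, ← QuotientGroup.mk_mul, QuotientGroup.eq_one_iff] at h1
      have h2 := mul_mem (inv_mem hm) (hZV h1)
      rwa [inv_mul_cancel_left] at h2
    have hVt : V ≠ ⊤ := by
      intro h
      rw [h, card_top, hcP] at hcV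
      norm_num at hcV
    exact hvZ (hΦZ (hFΦ (hleF V hVinv hVt hvV)))

end Aut

/-- Schmidt: the normal Sylow subgroup is abelian or semi-extraspecial. -/
theorem facts_of_minimalNonNilpotent {X : Type*} [Group X] [Finite X] {p : ℕ} [hp : Fact p.Prime]
    (hX : Cfsg.IsMinimalNonNilpotent X) (P : Sylow p X) [hPn : (P : Subgroup X).Normal]
    (hP1 : (P : Subgroup X) ≠ ⊥) :
    (∀ a b : ↥(P : Subgroup X), a * b = b * a) ∨ Facts p ↥(P : Subgroup X) := by
  classical
  by_cases hna : ∀ a b : ↥(P : Subgroup X), a * b = b * a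
  · exact Or.inl hna
  right
  haveI := P.2.isNilpotent
  obtain ⟨H, hH⟩ := Subgroup.exists_right_complement'_of_coprime (N := (P : Subgroup X))
    P.card_coprime_index
  have hdis : (P : Subgroup X) ⊓ H = ⊥ := hH.disjoint.eq_bot
  have hHt : H ≠ ⊤ := fun h => hP1 (by rw [h, inf_top_eq] at hdis; exact hdis)
  haveI := hX.2 H hHt
  obtain ⟨a, ha, hac⟩ : ∃ a ∈ H, a ∉ centralizer ((P : Subgroup X) : Set X) := by
    by_contra hne
    push Not at hne
    refine hX.1 ?_
    have := CfsgLib.Core.isNilpotent_sup_of_commute (P : Subgroup X) H fun x hx y hy =>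
      mem_centralizer_iff.1 (hne y hy) x hx
    rw [hH.sup_eq_top] at this
    exact Group.nilpotent_of_mulEquiv Subgroup.topEquiv
  have hex : ∃ n, ∃ a ∈ H, a ∉ centralizer ((P : Subgroup X) : Set X) ∧ orderOf a = n :=
    ⟨_, a, ha, hac, rfl⟩
  obtain ⟨a, ha, hac, hao⟩ := Nat.find_spec hex
  have hane : orderOf a ≠ 1 := fun h => hac (by rw [orderOf_eq_one_iff.1 h]; exact one_mem _)
  set q := (orderOf a).minFac with hqdef
  have hq : q.Prime := Nat.minFac_prime hane
  have hqd : q ∣ orderOf a := Nat.minFac_dvd _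
  have hcopH : (Nat.card H).Coprime p := by
    refine ((hp.out.coprime_iff_not_dvd).2 fun h => P.not_dvd_index ?_).symm
    rwa [hH.symm.index_eq_card]
  have hqp : q ≠ p := by
    intro h
    exact hp.out.ne_one (Nat.eq_one_of_dvd_coprimes hcopH
      ((h ▸ hqd).trans (H.orderOf_dvd_natCard ha)) dvd_rfl)
  have haq : a ^ q ∈ centralizer ((P : Subgroup X) : Set X) := by
    by_contra hne
    have hlt : orderOf (a ^ q) < Nat.find hex := by
      rw [← hao, orderOf_pow_of_dvd hq.ne_zero hqd]
      exact Nat.div_lt_self (orderOf_pos a) hq.one_lt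
    exact Nat.find_min hex hlt ⟨a ^ q, pow_mem ha _, hne, rfl⟩
  let α : MulAut ↥(P : Subgroup X) := MulAut.conjNormal a
  have hαv : ∀ x : ↥(P : Subgroup X), ((α x : ↥(P : Subgroup X)) : X) = a * x * a⁻¹ :=
    fun x => MulAut.conjNormal_apply a x
  refine facts_of_aut P.2 hna α hq hqp ?_ ?_ ?_
  · show (MulAut.conjNormal a) ^ q = 1
    rw [← map_pow]
    refine MulEquiv.ext fun x => Subtype.ext ?_
    rw [MulAut.conjNormal_apply, ← mem_centralizer_iff.1 haq x x.2, mul_inv_cancel_right]
    rfl
  · intro h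
    refine hac (mem_centralizer_iff.2 fun x hx => ?_)
    have := congrArg Subtype.val (DFunLike.congr_fun h ⟨x, hx⟩)
    rw [hαv] at this
    have h3 : a * x * a⁻¹ = x := this
    rw [mul_inv_eq_iff_eq_mul] at h3
    exact h3.symm
  · intro M hM hMt m hm
    set M' := M.map (P : Subgroup X).subtype with hM'
    set J := M' ⊔ zpowers a with hJ
    have hnorm : zpowers a ≤ normalizer (M' : Set X) := by
      rw [zpowers_le]
      have hle : M'.map (MulAut.conj a).toMonoidHom ≤ M' := by
        rintro _ ⟨_, ⟨x, hx, rfl⟩, rfl⟩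
        exact ⟨α x, hM x hx, hαv x⟩
      rw [mem_normalizer_iff_map_conj_eq]
      exact eq_of_le_of_card_ge hle (card_map_of_injective (MulAut.conj a).injective).ge
    have hJt : J ≠ ⊤ := by
      intro h
      refine hMt (eq_top_iff.2 fun x _ => ?_)
      obtain ⟨b, hb, y, hy, hxy⟩ := (CfsgLib.Core.mem_sup_iff_mul hnorm).1
        (show (x : X) ∈ zpowers a ⊔ M' by rw [sup_comm, ← hJ, h]; exact mem_top _)
      obtain ⟨y', hy', rfl⟩ := hy
      have hbP : b ∈ (P : Subgroup X) ⊓ H := by
        refine mem_inf.2 ⟨?_, (zpowers_le.2 ha) hb⟩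
        have : b = (x : X) * ((y' : X))⁻¹ := by rw [hxy]; simp
        rw [this]
        exact (P : Subgroup X).mul_mem x.2 ((P : Subgroup X).inv_mem y'.2)
      rw [hdis, mem_bot] at hbP
      rw [hbP, one_mul] at hxy
      rwa [show x = y' from Subtype.ext hxy]
    haveI := hX.2 J hJt
    have hcop : (orderOf (m : X)).Coprime (orderOf a) := by
      obtain ⟨i, hi⟩ := IsPGroup.iff_orderOf.1 P.2 m
      rw [Subgroup.orderOf_coe, hi]
      exact (hcopH.coprime_dvd_left (H.orderOf_dvd_natCard ha)).symm.pow_left i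
    have hc := CfsgLib.SolvStruct.commute_of_mem_nilpotent (hX.2 J hJt)
      (mem_sup_left (mem_map_of_mem _ hm) : (m : X) ∈ J) (mem_sup_right (mem_zpowers a)) hcop
    refine Subtype.ext ?_
    rw [hαv, ← hc.eq, mul_inv_cancel_right]

end CfsgLib.Core.SchmidtLength
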