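import Cfsg.Agent.Lib.Core.SchmidtLength.Facts
import Cfsg.Agent.Lib.PGroups.FrattiniModule
import Cfsg.Agent.Lib.LocalEven.Generation
import Cfsg.Agent.Lib.PLocal.SLTwo.StableQuot

/-!
# A semi-extraspecial Sylow subgroup over an elementary abelian `O_p`

If `O_p(H)` is elementary abelian, self-centralising, proper in the Sylow subgroup `Q`, then `Q` has
order `p³` and `p ≤ 3`.
-/

set_option autoImplicit false

namespace CfsgLib.Core.SchmidtLength

open Subgroup
open scoped commutatorElement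

variable {H : Type*} [Group H]

/-- Conjugation data: `g` fixes `e` and moves `z` by `e ^ a`; then so do its powers. -/
theorem pow_conj_shear {g e z : H} {a : ℕ} (hge : g * e * g⁻¹ = e) (hgz : g * z * g⁻¹ = e ^ a * z)
    (n : ℕ) : g ^ n * e * (g ^ n)⁻¹ = e ∧ g ^ n * z * (g ^ n)⁻¹ = e ^ (a * n) * z := by
  induction n with
  | zero => simp
  | succ n ih =>
    obtain ⟨ih1, ih2⟩ := ih
    constructor
    · calc g ^ (n + 1) * e * (g ^ (n + 1))⁻¹ = g ^ n * (g * e * g⁻¹) * (g ^ n)⁻¹ := by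
            rw [pow_succ]; group
        _ = e := by rw [hge, ih1]
    · calc g ^ (n + 1) * z * (g ^ (n + 1))⁻¹ = g ^ n * (g * z * g⁻¹) * (g ^ n)⁻¹ := by
            rw [pow_succ]; group
        _ = (g ^ n * e * (g ^ n)⁻¹) ^ a * (g ^ n * z * (g ^ n)⁻¹) := by
            rw [hgz, conj_pow]; group
        _ = e ^ (a * (n + 1)) * z := by
            rw [ih1, ih2, ← mul_assoc, ← pow_add]; ring_nf

theorem conj_conj (x y g : H) : x * y * g * (x * y)⁻¹ = x * (y * g * y⁻¹) * x⁻¹ := by group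

/-- `T S T` has fourth power centralising both root elements, for opposite shears `T`, `S`. -/
theorem torus_fourth {p x c : ℕ} {e z T S : H} (hez : e * z = z * e) (hep : e ^ p = 1)
    (hzp : z ^ p = 1) (hTe : T * e * T⁻¹ = e) (hTz : T * z * T⁻¹ = e ^ x * z)
    (hSz : S * z * S⁻¹ = z) (hSe : S * e * S⁻¹ = z ^ c * e) (hxc : (x : ZMod p) * c = -1) :
    (T * S * T) ^ 4 * e * ((T * S * T) ^ 4)⁻¹ = e ∧
      (T * S * T) ^ 4 * z * ((T * S * T) ^ 4)⁻¹ = z := by
  have hmodpow : ∀ (g : H), g ^ p = 1 → ∀ i j : ℕ, (i : ZMod p) = j → g ^ i = g ^ j := by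
    intro g hg i j hij
    rw [ZMod.natCast_eq_natCast_iff'] at hij
    rw [← Nat.mod_add_div i p, ← Nat.mod_add_div j p, pow_add, pow_add, pow_mul, pow_mul, hg,
      one_pow, one_pow, hij]
  have hc : Commute e z := hez
  have h1 : ((x * c + 1 : ℕ) : ZMod p) = ((0 : ℕ) : ZMod p) := by
    push_cast; rw [hxc, neg_add_cancel]
  have h1' : ((c * x + 1 : ℕ) : ZMod p) = ((0 : ℕ) : ZMod p) := by rw [mul_comm c x]; exact h1
  have h2 : ((x * c * (x * c) : ℕ) : ZMod p) = ((1 : ℕ) : ZMod p) := by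
    push_cast; rw [hxc]; ring
  set w := T * S * T with hw
  have hwe : w * e * w⁻¹ = z ^ c := by
    rw [hw, conj_conj, conj_conj, hTe, hSe,
      show T * (z ^ c * e) * T⁻¹ = (T * z * T⁻¹) ^ c * (T * e * T⁻¹) by rw [conj_pow]; group,
      hTz, hTe, (hc.pow_left x).mul_pow, ← pow_mul, mul_assoc, ← (hc.pow_right c).eq, ← mul_assoc,
      ← pow_succ, hmodpow e hep _ 0 h1, pow_zero, one_mul]
  have hwz : w * z * w⁻¹ = e ^ x := by
    have h3 : S * (e ^ x * z) * S⁻¹ = z ^ (c * x + 1) * e ^ x := by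
      rw [show S * (e ^ x * z) * S⁻¹ = (S * e * S⁻¹) ^ x * (S * z * S⁻¹) by rw [conj_pow]; group,
        hSe, hSz, ((hc.pow_right c).symm).mul_pow, ← pow_mul, mul_assoc, (hc.pow_left x).eq,
        ← mul_assoc, ← pow_succ]
    rw [hw, conj_conj, conj_conj, hTz, h3, hmodpow z hzp _ 0 h1', pow_zero, one_mul]
    rw [← conj_pow, hTe]
  have hw4 : ∀ g : H, w ^ 4 * g * (w ^ 4)⁻¹ = w * (w * (w * (w * g * w⁻¹) * w⁻¹) * w⁻¹) * w⁻¹ :=
    fun g => by simp only [pow_succ, pow_zero, one_mul, mul_inv_rev, mul_assoc]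
  clear_value w
  constructor
  · rw [hw4, hwe, ← conj_pow, hwz, ← pow_mul, ← conj_pow, hwe, ← pow_mul, ← conj_pow, hwz, ← pow_mul,
      show x * (c * (x * c)) = x * c * (x * c) by ring, hmodpow e hep _ 1 h2, pow_one]
  · rw [hw4, hwz, ← conj_pow, hwe, ← pow_mul, ← conj_pow, hwz, ← pow_mul, ← conj_pow, hwe, ← pow_mul,
      show c * (x * (c * x)) = x * c * (x * c) by ring, hmodpow z hzp _ 1 h2, pow_one]

variable [Finite H] {p : ℕ} [hp : Fact p.Prime]

theorem key (hsol : Cfsg.IsPSolvable p H) (Q : Sylow p H)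
    (hVp : ∀ v ∈ Cfsg.pCore p H, v ^ p = 1)
    (hVab : ∀ u ∈ Cfsg.pCore p H, ∀ v ∈ Cfsg.pCore p H, u * v = v * u)
    (hC : centralizer (Cfsg.pCore p H : Set H) ≤ Cfsg.pCore p H)
    (hne : Cfsg.pCore p H ≠ (Q : Subgroup H)) (Z : Subgroup H) (hZV : Z ≤ Cfsg.pCore p H)
    (hZc : ∀ z ∈ Z, ∀ y ∈ (Q : Subgroup H), z * y = y * z)
    (hcomm : ∀ a ∈ (Q : Subgroup H), ∀ b ∈ (Q : Subgroup H), ⁅a, b⁆ ∈ Z)
    (hpow : ∀ a ∈ (Q : Subgroup H), a ^ p ∈ Z)
    (hsurj : ∀ x ∈ Cfsg.pCore p H, x ∉ Z → ∀ z ∈ Z, ∃ y ∈ (Q : Subgroup H), ⁅x, y⁆ = z) :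
    Nat.card Z = p ∧ Nat.card (Cfsg.pCore p H) = p ^ 2 ∧ Nat.card (Q : Subgroup H) = p ^ 3 ∧
      (p = 2 ∨ p = 3) := by
  classical
  set V := Cfsg.pCore p H with hV
  haveI : V.Normal := CfsgLib.Core.normal_pCore p H
  have hVg : IsPGroup p V := CfsgLib.Core.isPGroup_pCore p H
  have hVQ : V ≤ (Q : Subgroup H) := CfsgLib.Core.pCore_le_sylow Q
  have hZQ : Z ≤ (Q : Subgroup H) := hZV.trans hVQ
  have hQnV : ¬ (Q : Subgroup H) ≤ V := fun h => hne (le_antisymm hVQ h)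
  have hcent : ∀ v ∈ V, ∀ w ∈ V, v * w * v⁻¹ = w := fun v hv w hw => by
    rw [hVab v hv w hw, mul_inv_cancel_right]
  have hZfix : ∀ z ∈ Z, ∀ y ∈ (Q : Subgroup H), y * z * y⁻¹ = z := fun z hz y hy => by
    rw [← hZc z hz y hy, mul_inv_cancel_right]
  have hbot : Z ≠ ⊥ := by
    intro h
    refine hQnV fun y hy => hC (mem_centralizer_iff.2 fun v hv => ?_)
    have h1 := hcomm v (hVQ hv) y hy
    rw [h, mem_bot, commutatorElement_eq_one_iff_mul_comm] at h1
    exact h1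
  have hCQ : ∀ x ∈ V, (∀ y ∈ (Q : Subgroup H), x * y = y * x) → x ∈ Z := by
    intro x hx hxc
    by_contra hxZ
    refine hbot (eq_bot_iff.2 fun z hz => mem_bot.2 ?_)
    obtain ⟨y, hy, rfl⟩ := hsurj x hx hxZ z hz
    exact commutatorElement_eq_one_iff_mul_comm.2 (hxc y hy)
  have hVZ : ¬ V ≤ Z := fun h => hQnV fun y hy => hC (mem_centralizer_iff.2 fun v hv =>
    hZc v (h hv) y hy)
  have hinvW : ∀ W : Subgroup H, W ≤ V → (Q : Subgroup H) ≤ normalizer (W : Set H) → ¬ W ≤ Z →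
      Z ≤ W := by
    intro W hWV hWn hWZ z hz
    obtain ⟨x, hx, hxZ⟩ := SetLike.not_le_iff_exists.1 hWZ
    obtain ⟨y, hy, rfl⟩ := hsurj x (hWV hx) hxZ z hz
    rw [commutatorElement_def, show x * y * x⁻¹ * y⁻¹ = x * (y * x⁻¹ * y⁻¹) by group]
    exact mul_mem hx ((mem_normalizer_iff.1 (hWn hy) x⁻¹).1 (inv_mem hx))
  -- the preimage of `O_{p'}(H/V)`
  set π := QuotientGroup.mk' V with hπ
  set N := Cfsg.pPrimeCore p (H ⧸ V) with hN
  haveI : N.Normal := CfsgLib.Core.normal_pPrimeCore p (H ⧸ V)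
  set K := N.comap π with hK
  have hVK : V ≤ K := by
    intro v hv
    show π v ∈ N
    rw [show π v = 1 from (QuotientGroup.eq_one_iff v).2 hv]
    exact one_mem _
  have hmapeq : ∀ g : H, π g = 1 ↔ g ∈ V := fun g => QuotientGroup.eq_one_iff g
  have hVcon : ∀ c ∈ K, c ^ p ∈ V → c ∈ V := by
    intro c hc hcp
    refine (hmapeq c).1 (orderOf_eq_one_iff.1 (Nat.eq_one_of_dvd_coprimes
      (CfsgLib.Core.coprime_card_pPrimeCore p (H ⧸ V)) (N.orderOf_dvd_natCard hc)
      (orderOf_dvd_of_pow_eq_one (by rw [← map_pow]; exact (hmapeq _).2 hcp))))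
  have hseries : ∀ c ∈ K, (∀ z ∈ Z, c * z * c⁻¹ = z) → (∀ v ∈ V, ⁅c, v⁆ ∈ Z) → c ∈ V := by
    intro c hc hcz hcv
    refine hVcon c hc (hC (mem_centralizer_iff.2 fun v hv => ?_))
    obtain ⟨z, hz, hcvz⟩ : ∃ z ∈ Z, c * v * c⁻¹ = z * v :=
      ⟨⁅c, v⁆, hcv v hv, by rw [commutatorElement_def]; group⟩
    have hit : ∀ n : ℕ, c ^ n * v * (c ^ n)⁻¹ = z ^ n * v := by
      intro n
      induction n with
      | zero => simp
      | succ n ih =>
        calc c ^ (n + 1) * v * (c ^ (n + 1))⁻¹ = c * (c ^ n * v * (c ^ n)⁻¹) * c⁻¹ := by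
              rw [pow_succ']; group
          _ = (c * z * c⁻¹) ^ n * (c * v * c⁻¹) := by rw [ih, conj_pow]; group
          _ = z ^ (n + 1) * v := by rw [hcz z hz, hcvz, pow_succ, mul_assoc]
    have h1 := hit p
    rw [hVp z (hZV hz), one_mul, mul_inv_eq_iff_eq_mul] at h1
    exact h1.symm
  -- no proper overgroup of `V` in `K`, normalised by `Q`, fixes a nontrivial element of `V`
  have stepA : ∀ R : Subgroup H, V ≤ R → R ≤ K → (Q : Subgroup H) ≤ normalizer (R : Set H) →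
      ∀ w ∈ V, w ≠ 1 → (∀ r ∈ R, r * w = w * r) → R ≤ V := by
    intro R hVR hRK hQR w hwV hw1 hwR
    have hidx : (Nat.card (V.subgroupOf R)).Coprime (V.subgroupOf R).index := by
      rw [Nat.card_congr (subgroupOfEquivOfLe hVR).toEquiv]
      obtain ⟨n, hn⟩ := IsPGroup.iff_card.1 hVg
      rw [hn]
      refine ((CfsgLib.Core.coprime_card_pPrimeCore p (H ⧸ V)).coprime_dvd_left ?_).symm.pow_left n
      show V.relIndex R ∣ _
      have h1 := relIndex_ker π (K := R)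
      rw [hπ, QuotientGroup.ker_mk'] at h1
      rw [h1]
      exact card_dvd_of_le (map_le_iff_le_comap.2 hRK)
    obtain ⟨R', hR'⟩ := Subgroup.exists_right_complement'_of_coprime hidx
    set R0 := R'.map R.subtype with hR0
    have hR0R : R0 ≤ R := map_subtype_le _
    have hsup : ∀ r ∈ R, ∃ v ∈ V, ∃ s ∈ R0, r = v * s := by
      intro r hr
      obtain ⟨⟨v, s⟩, hvs, -⟩ := hR'.existsUnique ⟨r, hr⟩
      exact ⟨_, v.2, _, mem_map_of_mem _ s.2, (congrArg Subtype.val hvs).symm⟩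
    have hcop : (Nat.card R0).Coprime (Nat.card V) := by
      rw [hR0, card_map_of_injective R.subtype_injective, ← hR'.symm.index_eq_card,
        ← Nat.card_congr (subgroupOfEquivOfLe hVR).toEquiv]
      exact hidx.symm
    have hR0V : R0 ≤ normalizer (V : Set H) := le_normalizer_of_normal _ _
    haveI : IsMulCommutative V := ⟨⟨fun a b => Subtype.ext (hVab a a.2 b b.2)⟩⟩
    haveI := hVg.isNilpotent
    have hsol' : Group.IsSolvable R0 ∨ Group.IsSolvable V := Or.inr inferInstance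
    set M := ⁅V, R0⁆ with hM
    set C := V ⊓ centralizer (R0 : Set H) with hCdef
    have hMC : M ⊔ C = V := CfsgLib.Core.commutator_sup_centralizer hR0V hcop hsol'
    have hdis : C ⊓ M = ⊥ := CfsgLib.Core.abelian_inf_eq_bot hR0V hcop
    have hMV : M ≤ V := CfsgLib.Core.commutator_le_of_normalizes hR0V
    have hMeq : M = ⁅V, R⁆ := by
      refine le_antisymm (commutator_mono le_rfl hR0R) (commutator_le.2 fun v hv r hr => ?_)
      obtain ⟨v', hv', s, hs, rfl⟩ := hsup r hr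
      have h1 : ⁅v, v' * s⁆ = v' * ⁅v, s⁆ * v'⁻¹ := by
        calc ⁅v, v' * s⁆ = ⁅v, v'⁆ * (v' * ⁅v, s⁆ * v'⁻¹) := by
              simp only [commutatorElement_def]; group
          _ = v' * ⁅v, s⁆ * v'⁻¹ := by
            rw [commutatorElement_eq_one_iff_mul_comm.2 (hVab v hv v' hv'), one_mul]
      rw [h1, hcent v' hv' _ (hMV (commutator_mem_commutator hv hs))]
      exact commutator_mem_commutator hv hs
    have hQM : (Q : Subgroup H) ≤ normalizer (M : Set H) := by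
      intro y hy
      have hle : ∀ y ∈ (Q : Subgroup H), ∀ m ∈ M, y * m * y⁻¹ ∈ M := by
        intro y hy
        have hc : M ≤ M.comap (MulAut.conj y).toMonoidHom := by
          rw [hMeq, commutator_le]
          intro v hv r hr
          show MulAut.conj y ⁅v, r⁆ ∈ ⁅V, R⁆
          rw [map_commutatorElement]
          exact commutator_mem_commutator ((inferInstance : V.Normal).conj_mem v hv y)
            ((mem_normalizer_iff.1 (hQR hy) r).1 hr)
        exact fun m hm => hc hm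
      rw [mem_normalizer_iff]
      intro m
      refine ⟨hle y hy m, fun hm => ?_⟩
      have := hle y⁻¹ (inv_mem hy) _ hm
      simpa [mul_assoc] using this
    have hQC : (Q : Subgroup H) ≤ normalizer (C : Set H) := by
      have heq : C = V ⊓ centralizer (R : Set H) := by
        refine le_antisymm (fun c hc => mem_inf.2 ⟨(mem_inf.1 hc).1, mem_centralizer_iff.2 fun r hr => ?_⟩)
          (inf_le_inf_left V (centralizer_le hR0R))
        obtain ⟨v', hv', s, hs, rfl⟩ := hsup r hr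
        rw [mul_assoc, mem_centralizer_iff.1 (mem_inf.1 hc).2 s hs, ← mul_assoc,
          hVab v' hv' c (mem_inf.1 hc).1, mul_assoc]
      intro y hy
      have hle : ∀ y ∈ (Q : Subgroup H), ∀ c ∈ C, y * c * y⁻¹ ∈ C := by
        intro y hy c hc
        rw [heq] at hc ⊢
        refine mem_inf.2 ⟨(inferInstance : V.Normal).conj_mem c (mem_inf.1 hc).1 y,
          mem_centralizer_iff.2 fun r hr => ?_⟩
        have hr' : y⁻¹ * r * y⁻¹⁻¹ ∈ R := (mem_normalizer_iff.1 (hQR (inv_mem hy)) r).1 hr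
        rw [inv_inv] at hr'
        calc r * (y * c * y⁻¹) = y * ((y⁻¹ * r * y) * c) * y⁻¹ := by group
          _ = y * (c * (y⁻¹ * r * y)) * y⁻¹ := by rw [mem_centralizer_iff.1 (mem_inf.1 hc).2 _ hr']
          _ = y * c * y⁻¹ * r := by group
      rw [mem_normalizer_iff]
      intro m
      refine ⟨hle y hy m, fun hm => ?_⟩
      have := hle y⁻¹ (inv_mem hy) _ hm
      simpa [mul_assoc] using this
    have hwC : w ∈ C := mem_inf.2 ⟨hwV, mem_centralizer_iff.2 fun r hr => hwR r (hR0R hr)⟩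
    by_cases hMb : M = ⊥
    · intro r hr
      obtain ⟨v', hv', s, hs, rfl⟩ := hsup r hr
      refine mul_mem hv' (hC (mem_centralizer_iff.2 fun v hv => ?_))
      have := commutator_mem_commutator (H₁ := V) (H₂ := R0) hv hs
      rw [← hM, hMb, mem_bot, commutatorElement_eq_one_iff_mul_comm] at this
      exact this
    exfalso
    have hCb : C ≠ ⊥ := fun h => hw1 (mem_bot.1 (h ▸ hwC))
    by_cases h1 : C ≤ Z
    · by_cases h2 : M ≤ Z
      · exact hVZ (hMC ▸ sup_le h2 h1)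
      · exact hCb (eq_bot_iff.2 fun c hc => hdis ▸ mem_inf.2 ⟨hc, hinvW M hMV hQM h2 (h1 hc)⟩)
    · have hZC := hinvW C inf_le_left hQC h1
      by_cases h2 : M ≤ Z
      · exact hMb (eq_bot_iff.2 fun c hc => hdis ▸ mem_inf.2 ⟨hZC (h2 hc), hc⟩)
      · exact hbot (eq_bot_iff.2 fun c hc => hdis ▸ mem_inf.2 ⟨hZC hc, hinvW M hMV hQM h2 hc⟩)
  have stepB : ∀ t ∈ (Q : Subgroup H), t ∉ V → ∀ k ∈ K, ⁅k, t⁆ ∈ V → ∀ y ∈ (Q : Subgroup H),
      ⁅k, y⁆ ∈ V := by
    intro t ht htV k hk hkt y hy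
    set W : Set H := {w | ∃ v ∈ V, ⁅v, t⁆ = w} with hW
    have hWZ : W ⊆ (Z : Set H) := fun w ⟨v, hv, e⟩ => e ▸ hcomm v (hVQ hv) t ht
    obtain ⟨v0, hv0, hv01⟩ : ∃ v ∈ V, ⁅v, t⁆ ≠ 1 := by
      by_contra hcon
      push Not at hcon
      exact htV (hC (mem_centralizer_iff.2 fun v hv =>
        commutatorElement_eq_one_iff_mul_comm.1 (hcon v hv)))
    have hQW : (Q : Subgroup H) ≤ centralizer W := fun y hy =>
      mem_centralizer_iff.2 fun w hw => hZc w (hWZ hw) y hy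
    have hVW : V ≤ centralizer W := fun v hv =>
      mem_centralizer_iff.2 fun w hw => hVab w (hZV (hWZ hw)) v hv
    set R := K ⊓ centralizer W with hR
    have hQR : (Q : Subgroup H) ≤ normalizer (R : Set H) := by
      intro y hy
      have hle : ∀ y ∈ (Q : Subgroup H), ∀ r ∈ R, y * r * y⁻¹ ∈ R := fun y hy r hr =>
        mem_inf.2 ⟨(inferInstance : K.Normal).conj_mem r (mem_inf.1 hr).1 y,
          mul_mem (mul_mem (hQW hy) (mem_inf.1 hr).2) (inv_mem (hQW hy))⟩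
      rw [mem_normalizer_iff]
      intro m
      refine ⟨hle y hy m, fun hm => ?_⟩
      have := hle y⁻¹ (inv_mem hy) _ hm
      simpa [mul_assoc] using this
    have hRV := stepA R (le_inf hVK hVW) inf_le_left hQR _ (hZV (hWZ ⟨v0, hv0, rfl⟩)) hv01
      fun r hr => (mem_centralizer_iff.1 (mem_inf.1 hr).2 _ ⟨v0, hv0, rfl⟩).symm
    have hWk : ∀ k' : H, ⁅k', t⁆ ∈ V → ∀ w ∈ W, k' * w * k'⁻¹ ∈ W := by
      intro k' hk' w ⟨v, hv, e⟩
      refine ⟨k' * v * k'⁻¹, (inferInstance : V.Normal).conj_mem v hv k', ?_⟩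
      rw [← e]
      set v1 := k' * v * k'⁻¹ with hv1
      have hv1V : v1 ∈ V := (inferInstance : V.Normal).conj_mem v hv k'
      have h1 : k' * ⁅v, t⁆ * k'⁻¹ = ⁅v1, ⁅k', t⁆ * t⁆ := by
        simp only [hv1, commutatorElement_def]; group
      rw [h1]
      have h2 : ⁅v1, ⁅k', t⁆ * t⁆ = ⁅v1, ⁅k', t⁆⁆ * (⁅k', t⁆ * ⁅v1, t⁆ * ⁅k', t⁆⁻¹) := by
        simp only [commutatorElement_def]; group
      rw [h2, commutatorElement_eq_one_iff_mul_comm.2 (hVab v1 hv1V _ hk'), one_mul,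
        hcent _ hk' _ (hZV (hcomm v1 (hVQ hv1V) t ht))]
    have hkt' : ⁅k⁻¹, t⁆ ∈ V := by
      have : ⁅k⁻¹, t⁆ = k⁻¹ * ⁅k, t⁆⁻¹ * k⁻¹⁻¹ := by simp only [commutatorElement_def]; group
      rw [this]
      exact (inferInstance : V.Normal).conj_mem _ (inv_mem hkt) _
    refine hRV (mem_inf.2 ⟨?_, mem_centralizer_iff.2 fun w hw => ?_⟩)
    · rw [commutatorElement_def, show k * y * k⁻¹ * y⁻¹ = k * (y * k⁻¹ * y⁻¹) by group]
      exact mul_mem hk ((inferInstance : K.Normal).conj_mem _ (inv_mem hk) y)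
    · have h1 := hWk k⁻¹ hkt' w hw
      rw [inv_inv] at h1
      have h2 : y * (k⁻¹ * w * k) * y⁻¹ = k⁻¹ * w * k := hZfix _ (hWZ h1) y hy
      have h3 : y * w * y⁻¹ = w := hZfix _ (hWZ hw) y hy
      rw [mul_inv_eq_iff_eq_mul] at h2 h3
      calc w * ⁅k, y⁆ = k * ((k⁻¹ * w * k) * y) * k⁻¹ * y⁻¹ := by
            simp only [commutatorElement_def]; group
        _ = k * (y * (k⁻¹ * w * k)) * k⁻¹ * y⁻¹ := by rw [← h2]
        _ = k * y * k⁻¹ * (w * y⁻¹) := by group
        _ = k * y * k⁻¹ * (y⁻¹ * w) := by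
            rw [show w * y⁻¹ = y⁻¹ * w by
              rw [eq_inv_mul_iff_mul_eq, ← mul_assoc, h3, mul_inv_cancel_right]]
        _ = ⁅k, y⁆ * w := by simp only [commutatorElement_def]; group
  -- `Q/V` has order `p`
  set S := (Q : Subgroup H).map π with hS
  haveI : IsMulCommutative S := by
    refine ⟨⟨fun a b => Subtype.ext ?_⟩⟩
    obtain ⟨_, a, ha, rfl⟩ := a
    obtain ⟨_, b, hb, rfl⟩ := b
    show π a * π b = π b * π a
    rw [← commutatorElement_eq_one_iff_mul_comm, ← map_commutatorElement]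
    exact (hmapeq _).2 (hZV (hcomm a ha b hb))
  have hSexp : ∀ s ∈ S, s ^ p = 1 := by
    rintro _ ⟨a, ha, rfl⟩
    rw [← map_pow]
    exact (hmapeq _).2 (hZV (hpow a ha))
  have hSC : ∀ s ∈ S, (∀ n ∈ N, n * s = s * n) → s = 1 := by
    intro s hs hsn
    have hsol' : Cfsg.IsPSolvable p (H ⧸ V) := CfsgLib.PLocal.isPSolvable_quotient hsol _
    have hsN : s ∈ N := CfsgLib.PGroups.centralizer_pPrimeCore_le hsol'
      (CfsgLib.Core.pCore_quotient_pCore p H) (mem_centralizer_iff.2 hsn)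
    exact orderOf_eq_one_iff.1 (Nat.eq_one_of_dvd_coprimes
      (CfsgLib.Core.coprime_card_pPrimeCore p (H ⧸ V)) (N.orderOf_dvd_natCard hsN)
      (orderOf_dvd_of_pow_eq_one (hSexp s hs)))
  have hSne : ∃ t ∈ (Q : Subgroup H), t ∉ V := SetLike.not_le_iff_exists.1 hQnV
  obtain ⟨t, ht, htV⟩ := hSne
  have hSp : Nat.card S = p := by
    obtain ⟨n, hn⟩ := IsPGroup.iff_card.1 (Q.2.map π)
    have hn0 : n ≠ 0 := by
      rintro rfl
      rw [pow_zero, card_eq_one] at hn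
      exact htV ((hmapeq t).1 (mem_bot.1 (hn ▸ mem_map_of_mem π ht)))
    by_contra hne'
    have hn2 : 2 ≤ n := by
      rcases n with _ | _ | n
      · exact absurd rfl hn0
      · exact absurd (by rw [hn, zero_add, pow_one]) hne'
      · omega
    have hgen := CfsgLib.LocalEven.le_of_centralizers_le (A := S) (N := N)
      (Y := centralizer (S : Set (H ⧸ V))) hSexp
      (hn ▸ Nat.pow_le_pow_right hp.out.pos hn2) (le_normalizer_of_normal _ _)
      (fun h => hp.out.ne_one (Nat.eq_one_of_dvd_coprimes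
        (CfsgLib.Core.coprime_card_pPrimeCore p (H ⧸ V)) h dvd_rfl)) ?_
    · have := hSC (π t) (mem_map_of_mem π ht) fun n hn =>
        (mem_centralizer_iff.1 (hgen hn) _ (mem_map_of_mem π ht)).symm
      exact htV ((hmapeq t).1 this)
    · rintro _ ⟨t', ht', rfl⟩ ht'1 x hx
      obtain ⟨k, rfl⟩ := QuotientGroup.mk'_surjective V x
      refine mem_centralizer_iff.2 ?_
      rintro _ ⟨y, hy, rfl⟩
      have h1 := mem_centralizer_singleton_iff.1 (mem_inf.1 hx).2
      have hkt : ⁅k, t'⁆ ∈ V := by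
        rw [← hmapeq, map_commutatorElement, commutatorElement_eq_one_iff_mul_comm]
        exact h1
      have h2 := stepB t' ht' (fun h => ht'1 ((hmapeq t').2 h)) k (mem_inf.1 hx).1 hkt y hy
      rw [← hmapeq, map_commutatorElement, commutatorElement_eq_one_iff_mul_comm] at h2
      exact h2.symm
  have hSgen : zpowers (π t) = S := by
    refine eq_of_le_of_card_ge (zpowers_le.2 (mem_map_of_mem π ht)) (le_of_eq ?_)
    rw [hSp, Nat.card_zpowers]
    exact (orderOf_eq_prime (hSexp _ (mem_map_of_mem π ht)) fun h => htV ((hmapeq t).1 h)).symm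
  have hQdec : ∀ y ∈ (Q : Subgroup H), ∃ v ∈ V, ∃ i : ℤ, y = v * t ^ i := by
    intro y hy
    obtain ⟨i, hi⟩ := mem_zpowers_iff.1 (hSgen.symm ▸ mem_map_of_mem π hy : π y ∈ zpowers (π t))
    refine ⟨y * (t ^ i)⁻¹, ?_, i, by group⟩
    rw [← hmapeq, map_mul, map_inv, map_zpow, hi, mul_inv_cancel]
  have hQcard : Nat.card (Q : Subgroup H) = Nat.card V * p := by
    have h1 := relIndex_ker π (K := (Q : Subgroup H))
    rw [hπ, QuotientGroup.ker_mk', ← hπ, ← hS, hSp] at h1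
    have h2 := (V.subgroupOf (Q : Subgroup H)).card_mul_index
    rw [Nat.card_congr (subgroupOfEquivOfLe hVQ).toEquiv] at h2
    rw [← h2]
    exact congrArg (Nat.card V * ·) h1
  -- `x ↦ ⁅x, t⁆` on `V`
  let ψ : V →* H := MonoidHom.mk' (fun x => ⁅(x : H), t⁆) fun a b => by
    calc ⁅(a : H) * b, t⁆ = a * ⁅(b : H), t⁆ * (a : H)⁻¹ * ⁅(a : H), t⁆ := by
          simp only [commutatorElement_def]; group
      _ = ⁅(a : H), t⁆ * ⁅(b : H), t⁆ := by
          rw [hcent a a.2 _ (hZV (hcomm b (hVQ b.2) t ht))]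
          exact (hZc _ (hcomm a (hVQ a.2) t ht) _ (hZQ (hcomm b (hVQ b.2) t ht))).symm
  have hψker : ψ.ker = Z.subgroupOf V := by
    ext x
    refine ⟨fun h => hCQ x x.2 fun y hy => ?_, fun h => ?_⟩
    · have h' : Commute (x : H) t := commutatorElement_eq_one_iff_mul_comm.1 h
      obtain ⟨v, hv, i, rfl⟩ := hQdec y hy
      exact (Commute.mul_right (hVab x x.2 v hv) (h'.zpow_right i)).eq
    · exact commutatorElement_eq_one_iff_mul_comm.2 (hZc x h t ht)
  obtain ⟨x0, hx0, hx0Z⟩ := SetLike.not_le_iff_exists.1 hVZ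
  set e := ⁅x0, t⁆ with he
  have heZ : e ∈ Z := hcomm x0 (hVQ hx0) t ht
  have he1 : e ≠ 1 := fun h => hx0Z (show (⟨x0, hx0⟩ : V) ∈ Z.subgroupOf V from hψker ▸ h)
  have heo : orderOf e = p := orderOf_eq_prime (hVp e (hZV heZ)) he1
  have hψpow : ∀ i : ℤ, ⁅x0, t ^ i⁆ ∈ zpowers e := by
    intro i
    have hnat : ∀ n : ℕ, ⁅x0, t ^ n⁆ = e ^ n := by
      intro n
      induction n with
      | zero => simp [commutatorElement_def]
      | succ n ih =>
        calc ⁅x0, t ^ (n + 1)⁆ = ⁅x0, t ^ n⁆ * (t ^ n * ⁅x0, t⁆ * (t ^ n)⁻¹) := by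
              simp only [commutatorElement_def, pow_succ]; group
          _ = e ^ (n + 1) := by rw [ih, ← he, hZfix e heZ _ (pow_mem ht n), pow_succ]
    have : zpowers t ≤ zpowers t := le_rfl
    obtain ⟨n, hn⟩ := (IsOfFinOrder.mem_powers_iff_mem_zpowers (isOfFinOrder_of_finite t)).2
      (mem_zpowers_iff.2 ⟨i, rfl⟩ : t ^ i ∈ zpowers t)
    rw [← hn]
    show ⁅x0, t ^ n⁆ ∈ _
    rw [hnat]
    exact pow_mem (mem_zpowers e) n
  have hZe : Z = zpowers e := by
    refine le_antisymm (fun z hz => ?_) (zpowers_le.2 heZ)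
    obtain ⟨y, hy, rfl⟩ := hsurj x0 hx0 hx0Z z hz
    obtain ⟨v, hv, i, rfl⟩ := hQdec y hy
    have h1 : ⁅x0, v * t ^ i⁆ = ⁅x0, v⁆ * (v * ⁅x0, t ^ i⁆ * v⁻¹) := by
      simp only [commutatorElement_def]; group
    rw [h1, commutatorElement_eq_one_iff_mul_comm.2 (hVab x0 hx0 v hv), one_mul,
      hcent v hv _ (hZV (hcomm x0 (hVQ hx0) _ (zpow_mem ht i)))]
    exact hψpow i
  have hZp : Nat.card Z = p := by rw [hZe, Nat.card_zpowers, heo]
  have hVcard : Nat.card V = p ^ 2 := by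
    have h1 := ψ.ker.index_mul_card
    rw [index_ker] at h1
    have h2 : ψ.range = Z := by
      refine le_antisymm ?_ (hZe ▸ zpowers_le.2 ⟨⟨x0, hx0⟩, rfl⟩)
      rintro _ ⟨v, rfl⟩
      exact hcomm v (hVQ v.2) t ht
    rw [h2, hψker, Nat.card_congr (subgroupOfEquivOfLe hZV).toEquiv, hZp] at h1
    rw [← h1, pow_two]
  refine ⟨hZp, hVcard, by rw [hQcard, hVcard]; ring, ?_⟩
  -- two transvections with distinct centres
  by_contra hp23
  push Not at hp23
  obtain ⟨k, hk, hkt⟩ : ∃ k ∈ K, ⁅k, t⁆ ∉ V := by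
    by_contra hcon
    push Not at hcon
    have := hSC (π t) (mem_map_of_mem π ht) ?_
    · exact htV ((hmapeq t).1 this)
    · intro n hn
      obtain ⟨k, rfl⟩ := QuotientGroup.mk'_surjective V n
      rw [← commutatorElement_eq_one_iff_mul_comm, ← map_commutatorElement]
      exact (hmapeq _).2 (hcon k hn)
  set z' := k * e * k⁻¹ with hz'
  have hz'V : z' ∈ V := (inferInstance : V.Normal).conj_mem e (hZV heZ) k
  have hcK : ⁅k, t⁆ ∈ K := by
    rw [commutatorElement_def, show k * t * k⁻¹ * t⁻¹ = k * (t * k⁻¹ * t⁻¹) by group]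
    exact mul_mem hk ((inferInstance : K.Normal).conj_mem _ (inv_mem hk) t)
  have hz'Z : z' ∉ Z := by
    intro hmem
    have hkZ : Z.map (MulAut.conj k).toMonoidHom = Z := by
      refine eq_of_le_of_card_ge ?_ (card_map_of_injective (MulAut.conj k).injective).ge
      conv_lhs => rw [hZe]
      rw [MonoidHom.map_zpowers, zpowers_le]
      exact hmem
    have hk1 : ∀ z ∈ Z, k⁻¹ * z * k ∈ Z := by
      intro z hz
      obtain ⟨z₀, hz₀, e'⟩ := mem_map.1 (hkZ.symm ▸ hz : z ∈ Z.map (MulAut.conj k).toMonoidHom)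
      rw [← e']
      simpa [mul_assoc] using hz₀
    have hk2 : ∀ z ∈ Z, k * z * k⁻¹ ∈ Z := fun z hz => hkZ ▸ mem_map_of_mem _ hz
    refine hkt (hseries _ hcK (fun z hz => ?_) fun v hv => ?_)
    · have h2 : t⁻¹ * z * t = z := by simpa using hZfix z hz t⁻¹ (inv_mem ht)
      calc ⁅k, t⁆ * z * ⁅k, t⁆⁻¹ = k * (t * (k⁻¹ * (t⁻¹ * z * t) * k) * t⁻¹) * k⁻¹ := by
            simp only [commutatorElement_def]; group
        _ = k * (k⁻¹ * z * k) * k⁻¹ := by rw [h2, hZfix _ (hk1 z hz) t ht]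
        _ = z := by group
    · set u := k⁻¹ * (t⁻¹ * v * t) * k with hu
      set v0 := k⁻¹ * v * k with hv0
      have hv0V : v0 ∈ V := by
        have := (inferInstance : V.Normal).conj_mem v hv k⁻¹
        simpa [hv0] using this
      have h1 : ⁅t⁻¹, v⁆ ∈ Z := hcomm _ (inv_mem ht) v (hVQ hv)
      set z1 := k⁻¹ * ⁅t⁻¹, v⁆ * k with hz1
      have hz1Z : z1 ∈ Z := hk1 _ h1
      have hu' : u = z1 * v0 := by
        simp only [hu, hz1, hv0, commutatorElement_def]; group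
      have h2 : ⁅k, t⁆ * v * ⁅k, t⁆⁻¹ = k * (t * u * t⁻¹) * k⁻¹ := by
        simp only [hu, commutatorElement_def]; group
      have h3 : ⁅⁅k, t⁆, v⁆ = k * (z1 * ⁅t, v0⁆) * k⁻¹ := by
        rw [commutatorElement_def, h2, hu']
        calc k * (t * (z1 * v0) * t⁻¹) * k⁻¹ * v⁻¹
            = k * ((t * z1 * t⁻¹) * (t * v0 * t⁻¹)) * k⁻¹ * v⁻¹ := by group
          _ = k * (z1 * (t * v0 * t⁻¹)) * k⁻¹ * v⁻¹ := by rw [hZfix z1 hz1Z t ht]
          _ = k * (z1 * ⁅t, v0⁆) * k⁻¹ := by simp only [hv0, commutatorElement_def]; group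
      rw [h3]
      exact hk2 _ (mul_mem hz1Z (hcomm t ht v0 (hVQ hv0V)))
  have hz'o : orderOf z' = p := by
    rw [hz']
    exact (orderOf_injective (MulAut.conj k).toMonoidHom (MulAut.conj k).injective e).trans heo
  have hVgen : zpowers e ⊔ zpowers z' = V := by
    refine eq_of_le_of_card_ge (sup_le (zpowers_le.2 (hZV heZ)) (zpowers_le.2 hz'V)) ?_
    set U := zpowers e ⊔ zpowers z' with hU
    have hUV : U ≤ V := sup_le (zpowers_le.2 (hZV heZ)) (zpowers_le.2 hz'V)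
    obtain ⟨n, hn⟩ := IsPGroup.iff_card.1 (hVg.to_le hUV)
    have hlt : Nat.card (zpowers e) < Nat.card U :=
      Nat.lt_of_le_of_ne (card_le_of_le le_sup_left) fun h => hz'Z (by
        rw [hZe, eq_of_le_of_card_ge (le_sup_left : zpowers e ≤ U) h.ge]
        exact mem_sup_right (mem_zpowers z'))
    rw [Nat.card_zpowers, heo, hn] at hlt
    rw [hn, hVcard]
    exact Nat.pow_le_pow_right hp.out.pos (by
      by_contra hc
      have : p ^ n ≤ p ^ 1 := Nat.pow_le_pow_right hp.out.pos (by omega)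
      rw [pow_one] at this
      omega)
  -- exponents of the two transvections
  obtain ⟨a, ha0, ha⟩ : ∃ a : ℕ, (a : ZMod p) ≠ 0 ∧ t * z' * t⁻¹ = e ^ a * z' := by
    obtain ⟨a, ha⟩ := (IsOfFinOrder.mem_powers_iff_mem_zpowers (isOfFinOrder_of_finite e)).2
      (hZe ▸ hcomm t ht z' (hVQ hz'V) : ⁅t, z'⁆ ∈ zpowers e)
    replace ha : e ^ a = ⁅t, z'⁆ := ha
    refine ⟨a, fun h => ?_, by rw [ha, commutatorElement_def]; group⟩
    rw [ZMod.natCast_eq_zero_iff, ← heo, orderOf_dvd_iff_pow_eq_one] at h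
    have h' : ⁅t, z'⁆ = 1 := ha.symm.trans h
    refine hz'Z (hCQ z' hz'V fun y hy => ?_)
    obtain ⟨v, hv, i, rfl⟩ := hQdec y hy
    have h'' : Commute z' t := (commutatorElement_eq_one_iff_mul_comm.1 h').symm
    exact (Commute.mul_right (hVab z' hz'V v hv) (h''.zpow_right i)).eq
  set f := k⁻¹ * e * k with hf
  have hfV : f ∈ V := by
    have := (inferInstance : V.Normal).conj_mem e (hZV heZ) k⁻¹
    simpa [hf] using this
  obtain ⟨b, hb0, hb⟩ : ∃ b : ℕ, (b : ZMod p) ≠ 0 ∧ (k * t * k⁻¹) * e * (k * t * k⁻¹)⁻¹ = z' ^ b * e := by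
    obtain ⟨b, hb⟩ := (IsOfFinOrder.mem_powers_iff_mem_zpowers (isOfFinOrder_of_finite e)).2
      (hZe ▸ hcomm t ht f (hVQ hfV) : ⁅t, f⁆ ∈ zpowers e)
    replace hb : e ^ b = ⁅t, f⁆ := hb
    refine ⟨b, fun h => ?_, ?_⟩
    · rw [ZMod.natCast_eq_zero_iff, ← heo, orderOf_dvd_iff_pow_eq_one] at h
      have h' : ⁅t, f⁆ = 1 := hb.symm.trans h
      have hfZ : f ∈ Z := hCQ f hfV fun y hy => by
        obtain ⟨v, hv, i, rfl⟩ := hQdec y hy
        have h'' : Commute f t := (commutatorElement_eq_one_iff_mul_comm.1 h').symm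
        exact (Commute.mul_right (hVab f hfV v hv) (h''.zpow_right i)).eq
      refine hz'Z ?_
      obtain ⟨i, hi⟩ := mem_zpowers_iff.1 (hZe ▸ hfZ : f ∈ zpowers e)
      have hzi : z' ^ i = e := by
        rw [hz', conj_zpow, hi, hf]; group
      have hle : zpowers e ≤ zpowers z' := zpowers_le.2 (hzi ▸ zpow_mem (mem_zpowers z') i)
      rw [hZe, eq_of_le_of_card_ge hle (by rw [Nat.card_zpowers, Nat.card_zpowers, heo, hz'o])]
      exact mem_zpowers z'
    · calc (k * t * k⁻¹) * e * (k * t * k⁻¹)⁻¹ = k * (⁅t, f⁆ * f) * k⁻¹ := by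
            simp only [hf, commutatorElement_def]; group
        _ = (k * e * k⁻¹) ^ b * e := by
            rw [← hb, conj_pow, hf]; group
        _ = z' ^ b * e := rfl
  set s := k * t * k⁻¹ with hs
  have hsz' : s * z' * s⁻¹ = z' := by
    calc s * z' * s⁻¹ = k * (t * e * t⁻¹) * k⁻¹ := by simp only [hs, hz']; group
      _ = z' := by rw [hZfix e heZ t ht]
  have hte : t * e * t⁻¹ = e := hZfix e heZ t ht
  have hzp : z' ^ p = 1 := hVp z' hz'V
  have hep : e ^ p = 1 := hVp e (hZV heZ)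
  have hmodpow : ∀ (g : H), g ^ p = 1 → ∀ i j : ℕ, (i : ZMod p) = j → g ^ i = g ^ j := by
    intro g hg i j hij
    rw [ZMod.natCast_eq_natCast_iff'] at hij
    rw [← Nat.mod_add_div i p, ← Nat.mod_add_div j p, pow_add, pow_add, pow_mul, pow_mul, hg,
      one_pow, one_pow, hij]
  -- the relation
  have hrel : ∀ n m : ℕ, ((a * n : ℕ) : ZMod p) * ((b * m : ℕ) : ZMod p) = -1 →
      ((2 * n + m : ℕ) : ZMod p) = 0 := by
    intro n m hnm
    set w := t ^ n * s ^ m * t ^ n with hw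
    obtain ⟨htne, htnz⟩ := pow_conj_shear hte ha n
    obtain ⟨hsmz, hsme⟩ := pow_conj_shear hsz' hb m
    obtain ⟨hw4e, hw4z⟩ := torus_fourth (hVab e (hZV heZ) z' hz'V) hep hzp htne htnz hsmz hsme hnm
    have hw4V : w ^ 4 ∈ V := by
      refine hC ?_
      have : V ≤ centralizer ({w ^ 4} : Set H) := by
        rw [← hVgen, sup_le_iff, zpowers_le, zpowers_le, mem_centralizer_singleton_iff,
          mem_centralizer_singleton_iff]
        exact ⟨(mul_inv_eq_iff_eq_mul.1 hw4e).symm, (mul_inv_eq_iff_eq_mul.1 hw4z).symm⟩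
      exact mem_centralizer_iff.2 fun v hv => (mem_centralizer_singleton_iff.1 (this hv))
    set π2 := QuotientGroup.mk' K with hπ2
    have hT : π2 s = π2 t := by
      rw [show s = ⁅k, t⁆ * t by simp only [hs, commutatorElement_def]; group, map_mul,
        show π2 ⁅k, t⁆ = 1 from (QuotientGroup.eq_one_iff _).2 hcK, one_mul]
    have hTo : orderOf (π2 t) = p := by
      refine orderOf_eq_prime ?_ fun h => htV (hVcon t ((QuotientGroup.eq_one_iff _).1 h)
        (hZV (hpow t ht)))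
      rw [← map_pow]
      exact (QuotientGroup.eq_one_iff _).2 (hVK (hZV (hpow t ht)))
    have hpw : (π2 t) ^ (4 * (2 * n + m)) = 1 := by
      have h1 : π2 (w ^ 4) = 1 := (QuotientGroup.eq_one_iff _).2 (hVK hw4V)
      rw [map_pow, hw, map_mul, map_mul, map_pow, map_pow, hT, ← pow_add, ← pow_add, ← pow_mul] at h1
      rw [← h1]
      congr 1
      ring
    rw [ZMod.natCast_eq_zero_iff]
    have hd := orderOf_dvd_of_pow_eq_one hpw
    rw [hTo] at hd
    refine (hp.out.dvd_mul.1 hd).resolve_left fun h4 => hp23.1 ?_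
    exact (Nat.prime_dvd_prime_iff_eq hp.out Nat.prime_two).1
      (hp.out.dvd_of_dvd_pow (show p ∣ 2 ^ 2 by norm_num; exact h4))
  -- `n = 1` and `n = 2`
  have hne2 : (2 : ZMod p) ≠ 0 := by
    intro h
    have h' : ((2 : ℕ) : ZMod p) = 0 := by exact_mod_cast h
    rw [ZMod.natCast_eq_zero_iff] at h'
    exact hp23.1 ((Nat.prime_dvd_prime_iff_eq hp.out Nat.prime_two).1 h')
  have hcase : ∀ n : ℕ, (n : ZMod p) ≠ 0 → 2 * (a : ZMod p) * b * (n : ZMod p) ^ 2 = 1 := by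
    intro n hn
    obtain ⟨m, hm⟩ := ZMod.natCast_zmod_surjective (n := p) (-((a : ZMod p) * n * b)⁻¹)
    have hne : (a : ZMod p) * n * b ≠ 0 := mul_ne_zero (mul_ne_zero ha0 hn) hb0
    have hI := mul_inv_cancel₀ hne
    have h := hrel n m (by push_cast; rw [hm]; linear_combination (-1 : ZMod p) * hI)
    push_cast at h
    rw [hm] at h
    linear_combination ((a : ZMod p) * n * b) * h + hI
  have h1 := hcase 1 (by simp)
  have h2 := hcase 2 (by simpa using hne2)
  push_cast at h1 h2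
  have h3 : (3 : ZMod p) = 0 := by linear_combination h2 - 4 * h1
  have h3' : ((3 : ℕ) : ZMod p) = 0 := by exact_mod_cast h3
  rw [ZMod.natCast_eq_zero_iff] at h3'
  exact hp23.2 ((Nat.prime_dvd_prime_iff_eq hp.out Nat.prime_three).1 h3')

end CfsgLib.Core.SchmidtLength
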