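import Cfsg.Agent.Lib.Core.SchmidtLength.Key
import Cfsg.Agent.Lib.OddLocal.PLengthOne

/-!
# `p`-length one for Sylow subgroups of minimal non-nilpotent type
-/

set_option autoImplicit false

namespace CfsgLib.Core.SchmidtLength

open Subgroup
open scoped commutatorElement

variable {G : Type*} [Group G] [Finite G] {p : ℕ} [hp : Fact p.Prime]

/-- A `p`-element centralising the Frattini quotient of `O_p` lies in `O_p`. -/
theorem centralizer_mod_frattini_le (hC : centralizer (Cfsg.pCore p G : Set G) ≤ Cfsg.pCore p G)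
    (Φ : Subgroup G) [Φ.Normal]
    (hΦ : Φ = (frattini (Cfsg.pCore p G)).map (Cfsg.pCore p G).subtype) :
    centralizer (((Cfsg.pCore p G).map (QuotientGroup.mk' Φ) : Subgroup (G ⧸ Φ)) : Set (G ⧸ Φ))
      ≤ (Cfsg.pCore p G).map (QuotientGroup.mk' Φ) := by
  classical
  set V := Cfsg.pCore p G with hV
  haveI : V.Normal := CfsgLib.Core.normal_pCore p G
  have hVg : IsPGroup p V := CfsgLib.Core.isPGroup_pCore p G
  set π := QuotientGroup.mk' Φ with hπ
  haveI : (V.map π).Normal := Subgroup.Normal.map inferInstance π (QuotientGroup.mk'_surjective Φ)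
  set M := (centralizer ((V.map π : Subgroup (G ⧸ Φ)) : Set (G ⧸ Φ))).comap π with hM
  have hMp : IsPGroup p M := by
    intro g
    obtain ⟨i, m, hm, hgm⟩ := Nat.exists_eq_pow_mul_and_not_dvd (orderOf_pos (g : G)).ne' p hp.out.ne_one
    refine ⟨i, Subtype.ext ?_⟩
    show (g : G) ^ p ^ i = 1
    set h := (g : G) ^ p ^ i with hh
    have hho : orderOf h = m := by
      rw [hh, orderOf_pow_of_dvd (pow_ne_zero _ hp.out.ne_zero) (hgm ▸ dvd_mul_right _ _), hgm,
        Nat.mul_div_cancel_left _ (pow_pos hp.out.pos _)]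
    have hcopm : m.Coprime p := (hp.out.coprime_iff_not_dvd.2 hm).symm
    have hhM : h ∈ M := pow_mem g.2 _
    have hA : zpowers h ≤ centralizer (V : Set G) := by
      refine CfsgLib.Core.centralizes_of_centralizes_frattini_quotient
        (le_normalizer_of_normal _ _) ?_ ?_
      · rw [Nat.card_zpowers, hho]
        obtain ⟨n, hn⟩ := IsPGroup.iff_card.1 (hVg.to_subgroup (frattini V))
        rw [hn]
        exact hcopm.pow_right n
      · intro a ha v hv
        rw [← hΦ, ← QuotientGroup.eq_one_iff]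
        have hc := mem_centralizer_iff.1 (show π a ∈ centralizer _ from (zpowers_le.2 hhM) ha) _
          (mem_map_of_mem π hv)
        show π (a * v * a⁻¹ * v⁻¹) = 1
        rw [map_mul, map_mul, map_mul, map_inv, map_inv, ← hc, mul_inv_cancel_right, mul_inv_cancel]
    have hhV : h ∈ V := hC (hA (mem_zpowers h))
    exact CfsgLib.PLocal.SLTwo.eq_one_of_mem_pCore hhV (hho ▸ hcopm)
  intro x hx
  obtain ⟨g, rfl⟩ := QuotientGroup.mk'_surjective Φ x
  exact mem_map_of_mem π (CfsgLib.Core.le_pCore hMp (show g ∈ M from hx))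

theorem sylow_normal (hsol : Cfsg.IsPSolvable p G) (h0 : Cfsg.pPrimeCore p G = ⊥) (Q : Sylow p G)
    (hQ : (∀ a b : ↥(Q : Subgroup G), a * b = b * a) ∨ Facts p ↥(Q : Subgroup G)) :
    (Q : Subgroup G).Normal := by
  classical
  set V := Cfsg.pCore p G with hV
  haveI : V.Normal := CfsgLib.Core.normal_pCore p G
  have hC : centralizer (V : Set G) ≤ V := CfsgLib.PLocal.centralizer_pCore_le hsol h0
  have hVQ : V ≤ (Q : Subgroup G) := CfsgLib.Core.pCore_le_sylow Q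
  by_contra hn
  have hne : V ≠ (Q : Subgroup G) := fun h => hn (h ▸ inferInstance)
  rcases hQ with hab | hf
  · exact hne (le_antisymm hVQ fun y hy => hC (mem_centralizer_iff.2 fun v hv =>
      congrArg Subtype.val (hab ⟨v, hVQ hv⟩ ⟨y, hy⟩)))
  set Zc := (center ↥(Q : Subgroup G)).map (Q : Subgroup G).subtype with hZc
  have hZQ : Zc ≤ (Q : Subgroup G) := map_subtype_le _
  have hmemZ : ∀ (x : G) (hx : x ∈ (Q : Subgroup G)), x ∈ Zc ↔ (⟨x, hx⟩ : ↥(Q : Subgroup G)) ∈ center _ := by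
    intro x hx
    refine ⟨?_, fun h => ⟨_, h, rfl⟩⟩
    rintro ⟨⟨y, hy⟩, hyc, rfl⟩
    exact hyc
  have hZcomm : ∀ z ∈ Zc, ∀ y ∈ (Q : Subgroup G), z * y = y * z := by
    intro z hz y hy
    exact (congrArg Subtype.val (mem_center_iff.1 ((hmemZ z (hZQ hz)).1 hz) ⟨y, hy⟩)).symm
  have hZV : Zc ≤ V := fun z hz => hC (mem_centralizer_iff.2 fun v hv =>
    (hZcomm z hz v (hVQ hv)).symm)
  have hcomm : ∀ a ∈ (Q : Subgroup G), ∀ b ∈ (Q : Subgroup G), ⁅a, b⁆ ∈ Zc := fun a ha b hb =>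
    ⟨⁅(⟨a, ha⟩ : ↥(Q : Subgroup G)), ⟨b, hb⟩⁆, hf.comm_mem _ _, rfl⟩
  have hpow : ∀ a ∈ (Q : Subgroup G), a ^ p ∈ Zc := fun a ha =>
    ⟨(⟨a, ha⟩ : ↥(Q : Subgroup G)) ^ p, hf.pow_mem _, rfl⟩
  have hsurj : ∀ x ∈ (Q : Subgroup G), x ∉ Zc → ∀ z ∈ Zc, ∃ y ∈ (Q : Subgroup G), ⁅x, y⁆ = z := by
    intro x hx hxZ z hz
    obtain ⟨y, hy⟩ := hf.surj ⟨x, hx⟩ (fun h => hxZ ((hmemZ x hx).2 h)) ⟨z, hZQ hz⟩
      ((hmemZ z (hZQ hz)).1 hz)
    exact ⟨y, y.2, congrArg Subtype.val hy⟩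
  have hVg : IsPGroup p V := CfsgLib.Core.isPGroup_pCore p G
  set Φ := (frattini V).map V.subtype with hΦ
  haveI : Φ.Normal := by rw [hΦ]; infer_instance
  have hΦZ : Φ ≤ Zc := by
    haveI : (Zc.subgroupOf V).Normal := ⟨fun z hz g => by
      show ((g : G) * (z : G) * (g : G)⁻¹) ∈ Zc
      rw [← hZcomm z hz g (hVQ g.2), mul_inv_cancel_right]
      exact hz⟩
    have h : frattini V ≤ Zc.subgroupOf V := by
      refine CfsgLib.PGroups.frattini_le_of_elementary (p := p) ?_ fun x => hpow x (hVQ x.2)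
      rw [commutator_eq_closure, closure_le]
      rintro _ ⟨a, b, rfl⟩
      exact hcomm a (hVQ a.2) b (hVQ b.2)
    rintro _ ⟨x, hx, rfl⟩
    exact h hx
  set π := QuotientGroup.mk' Φ with hπ
  have hker : π.ker = Φ := QuotientGroup.ker_mk' Φ
  have hΦV : Φ ≤ V := map_subtype_le _
  have hVbar : Cfsg.pCore p (G ⧸ Φ) = V.map π := by
    refine le_antisymm ?_ (CfsgLib.Core.map_pCore_le π (QuotientGroup.mk'_surjective Φ))
    intro x hx
    obtain ⟨g, rfl⟩ := QuotientGroup.mk'_surjective Φ x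
    exact mem_map_of_mem π (CfsgLib.Core.le_pCore ((CfsgLib.Core.isPGroup_pCore p _).comap_of_ker_isPGroup π
      (hVg.to_le (hker.le.trans hΦV))) (show g ∈ (Cfsg.pCore p (G ⧸ Φ)).comap π from hx))
  have hCbar : centralizer (Cfsg.pCore p (G ⧸ Φ) : Set (G ⧸ Φ)) ≤ Cfsg.pCore p (G ⧸ Φ) := by
    rw [hVbar]; exact centralizer_mod_frattini_le hC Φ hΦ
  set Qb : Sylow p (G ⧸ Φ) := Q.mapSurjective (QuotientGroup.mk'_surjective Φ) with hQb
  have hQbe : (Qb : Subgroup (G ⧸ Φ)) = (Q : Subgroup G).map π := Sylow.coe_mapSurjective _ _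
  have hneb : Cfsg.pCore p (G ⧸ Φ) ≠ (Qb : Subgroup (G ⧸ Φ)) := by
    intro h
    rw [hVbar, hQbe] at h
    refine hne (le_antisymm hVQ fun y hy => ?_)
    obtain ⟨v, hv, hvy⟩ := mem_map.1 (h.symm ▸ mem_map_of_mem π hy : π y ∈ V.map π)
    have h2 : v⁻¹ * y ∈ Φ := hker ▸ (by rw [MonoidHom.mem_ker, map_mul, map_inv, hvy, inv_mul_cancel])
    have := mul_mem hv (hΦV h2)
    rwa [mul_inv_cancel_left] at this
  obtain ⟨hZp, hVp2, hQp3, hp23⟩ := key (CfsgLib.PLocal.isPSolvable_quotient hsol Φ) Qb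
    (by
      rw [hVbar]
      rintro _ ⟨v, hv, rfl⟩
      rw [← map_pow]
      exact (QuotientGroup.eq_one_iff _).2 ⟨⟨v, hv⟩ ^ p, CfsgLib.PGroups.pow_mem_frattini hVg _, rfl⟩)
    (by
      rw [hVbar]
      rintro _ ⟨u, hu, rfl⟩ _ ⟨v, hv, rfl⟩
      rw [← commutatorElement_eq_one_iff_mul_comm, ← map_commutatorElement]
      exact (QuotientGroup.eq_one_iff _).2 ⟨⁅(⟨u, hu⟩ : V), ⟨v, hv⟩⁆,
        CfsgLib.PGroups.commutator_le_frattini' hVg (commutator_mem_commutator (mem_top _) (mem_top _)), rfl⟩)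
    hCbar hneb (Zc.map π) (hVbar ▸ map_mono hZV)
    (by
      rw [hQbe]
      rintro _ ⟨z, hz, rfl⟩ _ ⟨y, hy, rfl⟩
      rw [← map_mul, ← map_mul, hZcomm z hz y hy])
    (by
      rw [hQbe]
      rintro _ ⟨a, ha, rfl⟩ _ ⟨b, hb, rfl⟩
      rw [← map_commutatorElement]
      exact mem_map_of_mem π (hcomm a ha b hb))
    (by
      rw [hQbe]
      rintro _ ⟨a, ha, rfl⟩
      rw [← map_pow]
      exact mem_map_of_mem π (hpow a ha))
    (by
      rw [hVbar, hQbe]
      rintro _ ⟨x, hx, rfl⟩ hxZ _ ⟨z, hz, rfl⟩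
      obtain ⟨y, hy, rfl⟩ := hsurj x (hVQ hx) (fun h => hxZ (mem_map_of_mem π h)) z hz
      exact ⟨π y, mem_map_of_mem π hy, (map_commutatorElement π x y).symm⟩)
  rw [hVbar] at hVp2
  rw [hQbe] at hQp3
  -- `Zc` has order `p`
  obtain ⟨x, hx, hxZ⟩ : ∃ x ∈ V, x ∉ Zc := by
    by_contra hcon
    push Not at hcon
    have h := card_le_of_le (map_mono (f := π) (show V ≤ Zc from hcon))
    rw [hVp2, hZp, pow_two] at h
    nlinarith [hp.out.two_le]
  obtain ⟨t, ht, htV⟩ : ∃ t ∈ (Q : Subgroup G), t ∉ V :=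
    SetLike.not_le_iff_exists.1 fun h => hne (le_antisymm hVQ h)
  set e := ⁅x, t⁆ with he
  have heZ : e ∈ Zc := hcomm x (hVQ hx) t ht
  let U : Subgroup G :=
    { carrier := {y | y ∈ (Q : Subgroup G) ∧ ⁅x, y⁆ ∈ zpowers e}
      one_mem' := ⟨one_mem _, by rw [commutatorElement_one_right]; exact one_mem _⟩
      mul_mem' := fun {a b} ha hb => by
        refine ⟨mul_mem ha.1 hb.1, ?_⟩
        have hbZ := hcomm x (hVQ hx) b hb.1
        have : ⁅x, a * b⁆ = ⁅x, a⁆ * ⁅x, b⁆ := by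
          calc ⁅x, a * b⁆ = ⁅x, a⁆ * (a * ⁅x, b⁆ * a⁻¹) := by simp only [commutatorElement_def]; group
            _ = ⁅x, a⁆ * ⁅x, b⁆ := by rw [← hZcomm _ hbZ a ha.1, mul_inv_cancel_right]
        rw [this]
        exact mul_mem ha.2 hb.2
      inv_mem' := fun {a} ha => by
        refine ⟨inv_mem ha.1, ?_⟩
        have : ⁅x, a⁻¹⁆ = a⁻¹ * ⁅x, a⁆⁻¹ * a := by simp only [commutatorElement_def]; group
        rw [this, mul_assoc, hZcomm _ (inv_mem (hcomm x (hVQ hx) a ha.1)) a ha.1, ← mul_assoc,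
          inv_mul_cancel, one_mul]
        exact inv_mem ha.2 }
  have hUQ : U ≤ (Q : Subgroup G) := fun y hy => hy.1
  have hZU : Zc ≤ U := fun z hz => ⟨hZQ hz, by
    rw [commutatorElement_eq_one_iff_mul_comm.2 (hZcomm z hz x (hVQ hx)).symm]; exact one_mem _⟩
  have hxU : x ∈ U := ⟨hVQ hx, by rw [commutatorElement_self]; exact one_mem _⟩
  have htU : t ∈ U := ⟨ht, mem_zpowers e⟩
  have hUV : U ⊓ V = V := by
    set W := (U ⊓ V).map π with hW
    have hle : W ≤ V.map π := map_mono inf_le_right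
    have hlt : Nat.card (Zc.map π) < Nat.card W := by
      refine Nat.lt_of_le_of_ne (card_le_of_le (map_mono (le_inf hZU hZV))) fun h => hxZ ?_
      have hxW : π x ∈ W := mem_map_of_mem π (mem_inf.2 ⟨hxU, hx⟩)
      have hxW' : π x ∈ Zc.map π := by
        rw [eq_of_le_of_card_ge (map_mono (f := π) (le_inf hZU hZV)) h.ge]; exact hxW
      clear hxW
      rename' hxW' => hxW
      obtain ⟨z, hz, hzx⟩ := hxW
      have h2 : z⁻¹ * x ∈ Φ := hker ▸ (by rw [MonoidHom.mem_ker, map_mul, map_inv, hzx, inv_mul_cancel])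
      have := mul_mem hz (hΦZ h2)
      rwa [mul_inv_cancel_left] at this
    obtain ⟨n, hn⟩ := IsPGroup.iff_card.1 ((hVg.map π).to_le hle)
    rw [hZp, hn] at hlt
    have heq : W = V.map π := by
      refine eq_of_le_of_card_ge hle ?_
      rw [hn, hVp2]
      refine Nat.pow_le_pow_right hp.out.pos ?_
      by_contra hc
      have : p ^ n ≤ p ^ 1 := Nat.pow_le_pow_right hp.out.pos (by omega)
      rw [pow_one] at this
      omega
    refine le_antisymm inf_le_right fun v hv => ?_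
    obtain ⟨u, hu, huv⟩ := mem_map.1 (heq.symm ▸ mem_map_of_mem π hv : π v ∈ W)
    have h2 : u⁻¹ * v ∈ Φ := hker ▸ (by rw [MonoidHom.mem_ker, map_mul, map_inv, huv, inv_mul_cancel])
    have := mul_mem hu (mem_inf.2 ⟨hZU (hΦZ h2), hΦV h2⟩)
    rwa [mul_inv_cancel_left] at this
  have hVU : V ≤ U := hUV ▸ inf_le_left
  have hUQ' : U.map π = (Q : Subgroup G).map π := by
    refine eq_of_le_of_card_ge (map_mono hUQ) ?_
    obtain ⟨n, hn⟩ := IsPGroup.iff_card.1 ((Q.2.map π).to_le (map_mono hUQ))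
    have hlt : Nat.card (V.map π) < Nat.card (U.map π) := by
      refine Nat.lt_of_le_of_ne (card_le_of_le (map_mono hVU)) fun h => htV ?_
      have htW : π t ∈ U.map π := mem_map_of_mem π htU
      rw [← eq_of_le_of_card_ge (map_mono (f := π) hVU) h.ge] at htW
      obtain ⟨z, hz, hzx⟩ := htW
      have h2 : z⁻¹ * t ∈ Φ := hker ▸ (by rw [MonoidHom.mem_ker, map_mul, map_inv, hzx, inv_mul_cancel])
      have := mul_mem hz (hΦV h2)
      rwa [mul_inv_cancel_left] at this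
    rw [hVp2, hn] at hlt
    rw [hn, hQp3]
    refine Nat.pow_le_pow_right hp.out.pos ?_
    by_contra hc
    have : p ^ n ≤ p ^ 2 := Nat.pow_le_pow_right hp.out.pos (by omega)
    omega
  have hZe : Zc = zpowers e := by
    refine le_antisymm (fun z hz => ?_) (zpowers_le.2 heZ)
    obtain ⟨y, hy, rfl⟩ := hsurj x (hVQ hx) hxZ z hz
    obtain ⟨u, hu, huy⟩ := mem_map.1 (hUQ'.symm ▸ mem_map_of_mem π hy : π y ∈ U.map π)
    have h2 : u⁻¹ * y ∈ Φ := hker ▸ (by rw [MonoidHom.mem_ker, map_mul, map_inv, huy, inv_mul_cancel])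
    have h3 := mul_mem hu (hZU (hΦZ h2))
    rw [mul_inv_cancel_left] at h3
    exact h3.2
  have hep : e ^ p = 1 := by
    have hcent : ∀ w : ↥(Q : Subgroup G),
        ⁅(⟨x, hVQ hx⟩ : ↥(Q : Subgroup G)), ⟨t, ht⟩⁆ * w =
          w * ⁅(⟨x, hVQ hx⟩ : ↥(Q : Subgroup G)), ⟨t, ht⟩⁆ :=
      fun w => (mem_center_iff.1 (hf.comm_mem _ _) w).symm
    have h1 := comm_pow_left hcent p
    have h2 : ⁅(⟨x, hVQ hx⟩ : ↥(Q : Subgroup G)) ^ p, (⟨t, ht⟩ : ↥(Q : Subgroup G))⁆ = 1 :=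
      commutatorElement_eq_one_iff_mul_comm.2 (mem_center_iff.1 (hf.pow_mem _) _).symm
    rw [h2] at h1
    exact (congrArg Subtype.val h1).symm
  have hZcard : Nat.card Zc = p := by
    refine le_antisymm ?_ (hZp ▸ Nat.le_of_dvd Nat.card_pos (card_map_dvd _ _))
    rw [hZe, Nat.card_zpowers]
    exact orderOf_le_of_pow_eq_one hp.out.pos hep
  have hΦbot : Φ = ⊥ := by
    have h1 := relIndex_ker π (K := Zc)
    rw [hker, hZp] at h1
    have h2 := (Φ.subgroupOf Zc).card_mul_index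
    rw [Nat.card_congr (subgroupOfEquivOfLe hΦZ).toEquiv, hZcard] at h2
    rw [relIndex] at h1
    rw [h1] at h2
    exact card_eq_one.1 ((Nat.mul_eq_right hp.out.ne_zero).1 h2)
  have hcardmap : ∀ W : Subgroup G, Nat.card (W.map π) = Nat.card W := fun W =>
    card_map_of_injective ((π.ker_eq_bot_iff).1 (hker.trans hΦbot))
  have hVexp : ∀ v ∈ V, v ^ p = 1 := fun v hv => by
    have : v ^ p ∈ Φ := ⟨⟨v, hv⟩ ^ p, CfsgLib.PGroups.pow_mem_frattini hVg _, rfl⟩
    rwa [hΦbot, mem_bot] at this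
  rw [hcardmap] at hVp2 hQp3
  refine hf.excl hp23 (V.subgroupOf (Q : Subgroup G)) ?_ ?_ hQp3 ?_ ?_
  · exact (card_map_of_injective (Q : Subgroup G).subtype_injective).symm.trans hZcard
  · rw [Nat.card_congr (subgroupOfEquivOfLe hVQ).toEquiv, hVp2]
  · intro z hz
    exact hZV ⟨z, hz, rfl⟩
  · intro v hv
    exact Subtype.ext (hVexp v hv)

end CfsgLib.Core.SchmidtLength
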